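import Mathlib
import Cfsg.Agent.Lib.Zassenhaus.Main

/-!
A perfect group fixes an anisotropic quadratic map with values in a group of order at most four only trivially.
-/

set_option autoImplicit false
set_option linter.unusedSectionVars false
set_option linter.style.haveILetI false
set_option maxHeartbeats 800000

namespace CfsgLib.ThreeInvolutions

open scoped Classical

theorem hom_trivial_of_perfect {A B : Type*} [Group A] [Group B] (hA : commutator A = ⊤) [Group.IsSolvable B]
    (f : A →* B) (a : A) : f a = 1 := by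
  have hd : ∀ n, derivedSeries A n = ⊤ := by
    intro n
    induction n with
    | zero => rfl
    | succ n ih => rw [derivedSeries_succ, ih]; exact hA
  obtain ⟨n, hn⟩ := (Group.isSolvable_def (G := B)).mp inferInstance
  have h := map_derivedSeries_le_derivedSeries f n
  rw [hd n, hn, le_bot_iff] at h
  have : f a ∈ (⊤ : Subgroup A).map f := ⟨a, trivial, rfl⟩
  rwa [h, Subgroup.mem_bot] at this

/-- A perfect group acts trivially on four points. -/
theorem perm_trivial_of_perfect {A α : Type*} [Group A] [Finite α] (hA : commutator A = ⊤) (hα : Nat.card α ≤ 4)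
    (f : A →* Equiv.Perm α) (a : A) (x : α) : f a x = x := by
  haveI : Group.IsSolvable (Equiv.Perm α) := by
    refine CfsgLib.Zassenhaus.isSolvable_of_card_le ?_
    rw [Nat.card_perm]
    calc (Nat.card α).factorial ≤ Nat.factorial 4 := Nat.factorial_le hα
      _ = 24 := by decide
  rw [hom_trivial_of_perfect hA f a]
  rfl

/-- Double counting. -/
theorem card_mul_eq {α : Type*} [Fintype α] [DecidableEq α] (S T : Finset α) (R : α → α → Prop) [DecidableRel R]
    (hR : ∀ a b, R a b → R b a) (k l : ℕ) (hk : ∀ x ∈ S, (T.filter fun z => R x z).card = k)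
    (hl : ∀ z ∈ T, (S.filter fun x => R x z).card = l) : S.card * k = T.card * l := by
  have h := Finset.sum_card_bipartiteAbove_eq_sum_card_bipartiteBelow (r := R) (s := S) (t := T)
  simp only [Finset.bipartiteAbove, Finset.bipartiteBelow] at h
  rwa [Finset.sum_congr rfl hk, Finset.sum_congr rfl hl, Finset.sum_const, Finset.sum_const, smul_eq_mul,
    smul_eq_mul] at h

variable {U V : Type*} [CommGroup U] [CommGroup V] {q : U → V}

/-- The associated bilinear map. -/
def pol (q : U → V) (u v : U) : V := q (u * v) * q u * q v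

theorem pol_comm (u v : U) : pol q u v = pol q v u := by
  simp only [pol, mul_comm u v]
  rw [mul_right_comm]

section
variable (hU : ∀ u : U, u * u = 1) (hV : ∀ v : V, v * v = 1) (hq : ∀ u : U, q u = 1 ↔ u = 1)
  (hb : ∀ u v w : U, pol q (u * v) w = pol q u w * pol q v w)

/-- `pol q x` as a homomorphism. -/
def polHom (x : U) : U →* V :=
  MonoidHom.mk' (fun y => pol q y x) fun u v => hb u v x

theorem mem_ker {x z : U} : z ∈ (polHom hb x).ker ↔ pol q z x = 1 := Iff.rfl

include hV in
theorem q_mul {x z : U} (h : z ∈ (polHom hb x).ker) : q (z * x) = q z * q x := by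
  have h1 : q (z * x) * q z * q x = 1 := h
  calc q (z * x) = q (z * x) * q z * q x * (q z * q x) := by
        rw [show q (z * x) * q z * q x * (q z * q x) = q (z * x) * (q z * q z) * (q x * q x) by ac_rfl,
          hV, hV, mul_one, mul_one]
    _ = q z * q x := by rw [h1, one_mul]

theorem ker_symm {x z : U} (h : z ∈ (polHom hb x).ker) : x ∈ (polHom hb z).ker := by
  rw [mem_ker, pol_comm]; exact h

include hU hV hq in
theorem self_mem (x : U) : x ∈ (polHom hb x).ker := by
  show q (x * x) * q x * q x = 1
  rw [hU, (hq 1).2 rfl, one_mul, hV]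

include hU hV hq in
theorem eq_of_value {x z : U} (h : z ∈ (polHom hb x).ker) (he : q z = q x) : z = x := by
  have h1 : z * x = 1 := (hq _).1 (by rw [q_mul hV hb h, he, hV])
  calc z = z * (x * x) := by rw [hU, mul_one]
    _ = x := by rw [← mul_assoc, h1, one_mul]

variable [Finite U] [Finite V] (hV4 : Nat.card V ≤ 4)

include hV hV4 in
theorem V_univ {v w : V} (hv : v ≠ 1) (hw : w ≠ 1) (hvw : v ≠ w) (t : V) : t = 1 ∨ t = v ∨ t = w ∨ t = v * w := by
  classical
  haveI := Fintype.ofFinite V
  have h3 : v * w ≠ 1 := fun h => hvw (by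
    calc v = v * (w * w) := by rw [hV, mul_one]
      _ = w := by rw [← mul_assoc, h, one_mul])
  have h4 : v * w ≠ v := fun h => hw (mul_left_cancel (a := v) (by rw [h, mul_one]))
  have h5 : v * w ≠ w := fun h => hv (mul_right_cancel (b := w) (by rw [h, one_mul]))
  have hc : ({1, v, w, v * w} : Finset V).card = 4 :=
    Finset.card_eq_four.2 ⟨1, v, w, v * w, hv.symm, hw.symm, h3.symm, hvw, h4.symm, h5.symm, rfl⟩
  have hu : ({1, v, w, v * w} : Finset V) = Finset.univ := Finset.eq_univ_of_card _ (by
    rw [hc]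
    refine le_antisymm ?_ (Nat.card_eq_fintype_card (α := V) ▸ hV4)
    exact hc ▸ Finset.card_le_univ _)
  have : t ∈ ({1, v, w, v * w} : Finset V) := hu ▸ Finset.mem_univ t
  simpa using this

include hV in
theorem mul_ne {v w : V} (hv : v ≠ 1) (hw : w ≠ 1) (hvw : v ≠ w) : v * w ≠ 1 ∧ v * w ≠ v ∧ v * w ≠ w := by
  refine ⟨fun h => hvw ?_, fun h => hw (mul_left_cancel (a := v) (by rw [h, mul_one])),
    fun h => hv (mul_right_cancel (b := w) (by rw [h, one_mul]))⟩
  calc v = v * (w * w) := by rw [hV, mul_one]
    _ = w := by rw [← mul_assoc, h, one_mul]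

include hU hV hq hV4 in
/-- Three pairwise commuting elements span at most a four-group. -/
theorem triangle {x z w : U} (hz : z ∈ (polHom hb x).ker) (hz1 : z ≠ 1) (hzx : z ≠ x) (hx1 : x ≠ 1)
    (hwx : w ∈ (polHom hb x).ker) (hwz : w ∈ (polHom hb z).ker) : w = 1 ∨ w = x ∨ w = z ∨ w = z * x := by
  have hne : q z ≠ q x := fun h => hzx (eq_of_value hU hV hq hb hz h)
  rcases V_univ hV hV4 (fun h => hz1 ((hq z).1 h)) (fun h => hx1 ((hq x).1 h)) hne (q w) with h | h | h | h
  · exact Or.inl ((hq w).1 h)
  · exact Or.inr (Or.inr (Or.inl (eq_of_value hU hV hq hb hwz h)))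
  · exact Or.inr (Or.inl (eq_of_value hU hV hq hb hwx h))
  · refine Or.inr (Or.inr (Or.inr (eq_of_value hU hV hq hb ?_ ?_)))
    · refine ker_symm hb (mul_mem (ker_symm hb hwz) (ker_symm hb hwx))
    · rw [h, q_mul hV hb hz]

include hU hV hq hV4 in
/-- A centralizer has at most eight elements. -/
theorem card_ker_le {x : U} (hx1 : x ≠ 1) : Nat.card (polHom hb x).ker ≤ 8 := by
  classical
  haveI := Fintype.ofFinite U
  set K := (polHom hb x).ker with hK
  by_cases h : ∀ z ∈ K, z = 1 ∨ z = x
  · have : Nat.card K ≤ 2 := by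
      calc Nat.card K = (K : Set U).ncard := Nat.card_coe_set_eq _
        _ ≤ ({1, x} : Set U).ncard := Set.ncard_le_ncard (fun z hz => h z hz) (Set.toFinite _)
        _ ≤ 2 := (Set.ncard_insert_le _ _).trans (by simp)
    omega
  push Not at h
  obtain ⟨z, hz, hz1, hzx⟩ := h
  have hne : q z ≠ q x := fun h => hzx (eq_of_value hU hV hq hb hz h)
  set g := (polHom hb z).comp K.subtype with hg
  have hker : Nat.card g.ker ≤ 4 := by
    refine le_trans (Nat.card_le_card_of_injective (β := ({1, x, z, z * x} : Set U)) (fun w => ⟨(w.1 : U), ?_⟩)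
      (fun a b e => Subtype.ext (Subtype.ext (congrArg (fun t => t.1) e)))) ?_
    · simpa using triangle hU hV hq hb hV4 hz hz1 hzx hx1 w.1.2 w.2
    · rw [Nat.card_coe_set_eq]
      refine le_trans (Set.ncard_insert_le _ _) ?_
      refine Nat.add_le_add_right (le_trans (Set.ncard_insert_le _ _) ?_) 1
      refine Nat.add_le_add_right (le_trans (Set.ncard_insert_le _ _) ?_) 1
      simp
  have hqx : q x ∉ g.range := by
    rintro ⟨⟨w, hw⟩, e⟩
    have e' : q (w * z) * q w * q z = q x := e
    have hwzK : w * z ∈ K := mul_mem hw hz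
    have e2 : q (w * z) = q w * (q x * q z) := by
      rw [← e', show q w * (q (w * z) * q w * q z * q z) = q (w * z) * ((q w * q w) * (q z * q z)) by ac_rfl,
        hV, hV, one_mul, mul_one]
    have hm := mul_ne hV (fun h => hz1 ((hq z).1 h)) (fun h => hx1 ((hq x).1 h)) hne
    rcases V_univ hV hV4 (fun h => hz1 ((hq z).1 h)) (fun h => hx1 ((hq x).1 h)) hne (q w) with h | h | h | h
    · rw [(hq w).1 h, one_mul, (hq 1).2 rfl, mul_one, hV] at e'
      exact hx1 ((hq x).1 e'.symm)
    · rw [h, show q z * (q x * q z) = q x * (q z * q z) by ac_rfl, hV, mul_one] at e2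
      have := eq_of_value hU hV hq hb hwzK e2
      have hwv : w = x * z := by rw [← this, mul_assoc, hU, mul_one]
      rw [hwv, q_mul hV hb (ker_symm hb hz)] at h
      exact hx1 ((hq x).1 (mul_right_cancel (b := q z) (h.trans (one_mul _).symm)))
    · rw [eq_of_value hU hV hq hb hw h] at e2
      rw [← mul_assoc, hV, one_mul, mul_comm, q_mul hV hb hz] at e2
      exact hx1 ((hq x).1 (mul_left_cancel (a := q z) (e2.trans (mul_one _).symm)))
    · rw [h, show q z * q x * (q x * q z) = (q z * q z) * (q x * q x) by ac_rfl, hV, hV, mul_one, hq] at e2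
      have hwz : w = z := by
        calc w = w * (z * z) := by rw [hU, mul_one]
          _ = z := by rw [← mul_assoc, e2, one_mul]
      rw [hwz] at h
      exact hx1 ((hq x).1 (mul_left_cancel (a := q z) (h.symm.trans (mul_one _).symm)))
  have hr : Nat.card g.range ≤ 2 := by
    have hd := Subgroup.card_subgroup_dvd_card g.range
    have hlt : Nat.card g.range < Nat.card V := by
      refine lt_of_le_of_ne (Nat.le_of_dvd Nat.card_pos hd) fun h => hqx ?_
      rw [Subgroup.eq_top_of_card_eq _ h]; trivial
    obtain ⟨c, hc⟩ := hd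
    by_contra hgt
    rcases Nat.lt_or_ge c 2 with hc2 | hc2
    · interval_cases c
      · exact absurd hc (by have := Nat.card_pos (α := V); omega)
      · omega
    · have : Nat.card g.range * 2 ≤ Nat.card V := hc ▸ Nat.mul_le_mul_left _ hc2
      omega
  have := g.ker.card_mul_index
  rw [Subgroup.index_ker] at this
  calc Nat.card K = Nat.card g.ker * Nat.card g.range := this.symm
    _ ≤ 4 * 2 := Nat.mul_le_mul hker hr
    _ = 8 := rfl

include hU hV hq hV4 in
theorem card_le_mul (x : U) : Nat.card U ≤ Nat.card (polHom hb x).ker * 4 := by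
  rw [← (polHom hb x).ker.card_mul_index, Subgroup.index_ker]
  exact Nat.mul_le_mul_left _ ((Subgroup.card_le_card_group _).trans hV4)

include hU in
theorem card_pow (K : Subgroup U) : ∃ k, Nat.card K = 2 ^ k := by
  haveI : Fact (Nat.Prime 2) := ⟨Nat.prime_two⟩
  exact (IsPGroup.iff_card (p := 2)).1 (fun g => ⟨1, Subtype.ext (by simp [pow_two, hU])⟩)

/-- The elements of value `v`. -/
noncomputable def cls [Fintype U] (q : U → V) (v : V) : Finset U := by
  classical exact Finset.univ.filter fun u => q u = v

theorem mem_cls [Fintype U] {v : V} {u : U} : u ∈ cls q v ↔ q u = v := by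
  simp [cls]

include hU hV hq hV4 in
/-- In the centralizer of `x`, half of the other elements have a given other value. -/
theorem two_mul_card_inter [Fintype U] {x : U} (hx1 : x ≠ 1) {w : V} (hw : w ≠ 1) (hwx : w ≠ q x) :
    2 * ((cls q w).filter fun z => pol q z x = 1).card + 2 = Nat.card (polHom hb x).ker := by
  classical
  set v := q x
  have hv : v ≠ 1 := fun h => hx1 ((hq x).1 h)
  obtain ⟨hu1, huw, huv⟩ := mul_ne hV hw hv hwx
  set A₁ := (cls q w).filter fun z => pol q z x = 1
  set A₂ := (cls q (w * v)).filter fun z => pol q z x = 1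
  have e12 : A₁.card = A₂.card := by
    refine Finset.card_bij' (fun z _ => z * x) (fun z _ => z * x) ?_ ?_ ?_ ?_
    · intro z hz
      simp only [A₁, A₂, Finset.mem_filter, mem_cls] at hz ⊢
      exact ⟨by rw [q_mul hV hb hz.2, hz.1], mul_mem hz.2 (self_mem hU hV hq hb x)⟩
    · intro z hz
      simp only [A₁, A₂, Finset.mem_filter, mem_cls] at hz ⊢
      exact ⟨by rw [q_mul hV hb hz.2, hz.1, mul_assoc, hV, mul_one], mul_mem hz.2 (self_mem hU hV hq hb x)⟩
    · intro z _; rw [mul_assoc, hU, mul_one]
    · intro z _; rw [mul_assoc, hU, mul_one]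
  have hd : Disjoint A₁ A₂ := Finset.disjoint_left.2 fun z h1 h2 => by
    simp only [A₁, A₂, Finset.mem_filter, mem_cls] at h1 h2
    exact huw (h2.1.symm.trans h1.1)
  have hK : (Finset.univ.filter fun z => pol q z x = 1) = insert 1 (insert x (A₁ ∪ A₂)) := by
    ext z
    simp only [A₁, A₂, Finset.mem_filter, Finset.mem_univ, true_and, Finset.mem_insert, Finset.mem_union, mem_cls]
    constructor
    · intro h
      rcases V_univ hV hV4 hw hv hwx (q z) with e | e | e | e
      · exact Or.inl ((hq z).1 e)
      · exact Or.inr (Or.inr (Or.inl ⟨e, h⟩))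
      · exact Or.inr (Or.inl (eq_of_value hU hV hq hb h e))
      · exact Or.inr (Or.inr (Or.inr ⟨e, h⟩))
    · rintro (rfl | rfl | ⟨-, h⟩ | ⟨-, h⟩)
      · exact one_mem (polHom hb x).ker
      · exact self_mem hU hV hq hb z
      · exact h
      · exact h
  have h1 : (1 : U) ∉ insert x (A₁ ∪ A₂) := by
    simp only [A₁, A₂, Finset.mem_insert, Finset.mem_union, Finset.mem_filter, mem_cls, (hq 1).2 rfl]
    rintro (h | h | h)
    · exact hx1 h.symm
    · exact hw h.1.symm
    · exact hu1 h.1.symm
  have h2 : x ∉ A₁ ∪ A₂ := by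
    simp only [A₁, A₂, Finset.mem_union, Finset.mem_filter, mem_cls]
    rintro (h | h)
    · exact hwx h.1.symm
    · exact huv h.1.symm
  have hcard : Nat.card (polHom hb x).ker = (Finset.univ.filter fun z => pol q z x = 1).card := by
    rw [← Fintype.card_subtype, ← Nat.card_eq_fintype_card]
    exact Nat.card_congr (Equiv.refl _)
  rw [hcard, hK, Finset.card_insert_of_notMem h1, Finset.card_insert_of_notMem h2,
    Finset.card_union_of_disjoint hd, ← e12]
  ring

end

/-- The main lemma. -/
theorem eq_one_of_perfect [Finite U] [Finite V] (hU : ∀ u : U, u * u = 1) (hV : ∀ v : V, v * v = 1)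
    (hV4 : Nat.card V ≤ 4) (hq : ∀ u : U, q u = 1 ↔ u = 1)
    (hb : ∀ u v w : U, pol q (u * v) w = pol q u w * pol q v w)
    {A : Type*} [Group A] (hA : commutator A = ⊤) (ψ : A →* MulAut U) (hqψ : ∀ a u, q (ψ a u) = q u)
    (hfix : ∀ u : U, (∀ a, ψ a u = u) → u = 1) (u₀ : U) : u₀ = 1 := by
  classical
  haveI := Fintype.ofFinite U
  haveI := Fintype.ofFinite V
  -- small invariant sets consist of fixed points
  have hsmall : ∀ S : Finset U, (∀ a, ∀ u ∈ S, ψ a u ∈ S) → S.card ≤ 4 → ∀ u ∈ S, u = 1 := by
    intro S hS hc u hu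
    refine hfix u fun a => ?_
    have hiff : ∀ a u, ψ a u ∈ S ↔ u ∈ S := fun a u => ⟨fun h => by
      simpa [← MulAut.mul_apply, ← map_mul] using hS a⁻¹ _ h, hS a u⟩
    let f : A →* Equiv.Perm S :=
      { toFun := fun a => Equiv.Perm.subtypePerm (ψ a).toEquiv (hiff a)
        map_one' := by ext s; simp
        map_mul' := fun a b => by ext s; simp only [map_mul]; rfl }
    have := perm_trivial_of_perfect hA (by simpa using hc) f a ⟨u, hu⟩
    exact congrArg Subtype.val this
  have hcls : ∀ {x : U}, x ≠ 1 → 5 ≤ (cls q (q x)).card := by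
    intro x hx
    by_contra h
    exact hx (hsmall (cls q (q x)) (fun a u hu => mem_cls.2 ((hqψ a u).trans (mem_cls.1 hu))) (by omega) x
      (mem_cls.2 rfl))
  have hpart : ∀ {v w : V}, v ≠ 1 → w ≠ 1 → v ≠ w →
      (cls q v).card + (cls q w).card + (cls q (v * w)).card + 1 = Nat.card U := by
    intro v w hv hw hvw
    obtain ⟨h3, h4, h5⟩ := mul_ne hV hv hw hvw
    have hu : (Finset.univ : Finset V) = {1, v, w, v * w} := by
      ext t; simpa using V_univ hV hV4 hv hw hvw t
    have key := Finset.card_eq_sum_card_fiberwise (s := (Finset.univ : Finset U)) (f := q)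
      (t := (Finset.univ : Finset V)) (fun _ _ => Finset.mem_univ _)
    rw [hu, Finset.sum_insert (by simp [hv.symm, hw.symm, h3.symm]), Finset.sum_insert (by simp [hvw, h4.symm]),
      Finset.sum_insert (by simp [h5.symm]), Finset.sum_singleton] at key
    rw [Nat.card_eq_fintype_card, ← Finset.card_univ (α := U)]
    have h1 : (Finset.univ.filter fun u => q u = (1 : V)).card = 1 := by
      rw [Finset.card_eq_one]; exact ⟨1, by ext u; simp [hq]⟩
    rw [h1] at key
    have e : ∀ v : V, (Finset.univ.filter fun u => q u = v) = cls q v := fun v => by ext; simp [mem_cls]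
    simp only [e] at key
    omega
  have htwo : ∀ K : Subgroup U, Nat.card K ≤ 8 → Nat.card K = 1 ∨ Nat.card K = 2 ∨ Nat.card K = 4 ∨ Nat.card K = 8 := by
    intro K hK
    obtain ⟨k, hk⟩ := card_pow hU K
    rw [hk] at hK ⊢
    have : k < 4 := (Nat.pow_lt_pow_iff_right (by norm_num : 1 < 2)).1 (by omega)
    interval_cases k <;> simp
  by_contra hu₀
  -- four elements in a centralizer give all values
  have hfull : ∀ {x : U}, x ≠ 1 → 4 ≤ Nat.card (polHom hb x).ker →
      ∃ z, pol q z x = 1 ∧ q z ≠ 1 ∧ q z ≠ q x ∧ q (z * x) = q z * q x := by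
    intro x hx h4
    by_contra h
    push Not at h
    have hsub : ((polHom hb x).ker : Set U) ⊆ {1, x} := by
      intro z hz
      by_contra hne
      simp only [Set.mem_insert_iff, Set.mem_singleton_iff, not_or] at hne
      exact h z hz (fun e => hne.1 ((hq z).1 e)) (fun e => hne.2 (eq_of_value hU hV hq hb hz e))
        (q_mul hV hb hz)
    have := Set.ncard_le_ncard hsub (Set.toFinite _)
    rw [← Nat.card_coe_set_eq] at this
    have h2 : ({1, x} : Set U).ncard ≤ 2 := (Set.ncard_insert_le _ _).trans (by simp)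
    simp only [SetLike.coe_sort_coe] at this
    omega
  have hU1 : Nat.card U ≤ 32 :=
    (card_le_mul hU hV hq hb hV4 u₀).trans (Nat.mul_le_mul_right 4 (card_ker_le hU hV hq hb hV4 hu₀))
  have hlow : ∀ x : U, x ≠ 1 → 2 ≤ Nat.card (polHom hb x).ker := by
    intro x hx
    rcases htwo _ (card_ker_le hU hV hq hb hV4 hx) with h | h | h | h
    · rw [Subgroup.card_eq_one] at h
      exact absurd (Subgroup.mem_bot.1 (h ▸ self_mem hU hV hq hb x)) hx
    all_goals omega
  -- classes in the presence of a four-element centralizer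
  have hsum : ∀ {x : U}, x ≠ 1 → 4 ≤ Nat.card (polHom hb x).ker → ∃ w, w ≠ 1 ∧ w ≠ q x ∧
      5 ≤ (cls q (q x)).card ∧ 5 ≤ (cls q w).card ∧ 5 ≤ (cls q (q x * w)).card := by
    intro x hx h4
    obtain ⟨z, -, hz1, hzx, hzxq⟩ := hfull hx h4
    refine ⟨q z, hz1, hzx, hcls hx, hcls fun h => hz1 ((hq z).2 h), ?_⟩
    rw [mul_comm, ← hzxq]
    refine hcls fun h => ?_
    rw [(hq _).2 h] at hzxq
    exact (mul_ne hV hz1 (fun e => hx ((hq x).1 e)) hzx).1 hzxq.symm
  obtain ⟨kU, hkU⟩ := card_pow hU (⊤ : Subgroup U)
  rw [Subgroup.card_top] at hkU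
  have hv₀ : 5 ≤ (cls q (q u₀)).card := hcls hu₀
  have hle : (cls q (q u₀)).card + 1 ≤ Nat.card U := by
    rw [Nat.card_eq_fintype_card]
    refine Finset.card_lt_univ_of_notMem (x := 1) ?_
    rw [mem_cls, (hq 1).2 rfl]
    exact fun e => hu₀ ((hq u₀).1 e.symm)
  have hk : kU = 3 ∨ kU = 4 ∨ kU = 5 := by
    have h1 : kU < 6 := (Nat.pow_lt_pow_iff_right (by norm_num : 1 < 2)).1 (by omega)
    have h2 : 2 < kU := (Nat.pow_lt_pow_iff_right (by norm_num : 1 < 2)).1 (by omega)
    omega
  rcases hk with rfl | rfl | rfl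
  · -- order 8
    replace hkU : Nat.card U = 8 := by rw [hkU]; rfl
    have hK2 : Nat.card (polHom hb u₀).ker = 2 := by
      rcases htwo _ (card_ker_le hU hV hq hb hV4 hu₀) with h | h | h | h
      · exact absurd h (by have := hlow u₀ hu₀; omega)
      · exact h
      all_goals
        obtain ⟨w, hw1, hwx, a, b, c⟩ := hsum hu₀ (by omega)
        have := hpart (fun e => hu₀ ((hq u₀).1 e)) hw1 (Ne.symm hwx)
        omega
    -- all values are equal
    have hall : ∀ u : U, u ≠ 1 → q u = q u₀ := by
      intro u hu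
      by_contra hne
      have := hpart (fun e => hu ((hq u).1 e)) (fun e => hu₀ ((hq u₀).1 e)) hne
      have := hcls hu
      omega
    have hr : ∀ y, pol q y u₀ = 1 ∨ pol q y u₀ = q u₀ := by
      intro y
      by_cases hy : y = 1
      · left; rw [hy]; exact one_mem (polHom hb u₀).ker
      by_cases hy0 : y * u₀ = 1
      · left
        have : y = u₀ := by
          calc y = y * (u₀ * u₀) := by rw [hU, mul_one]
            _ = u₀ := by rw [← mul_assoc, hy0, one_mul]
        rw [this]; exact self_mem hU hV hq hb u₀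
      right
      show q (y * u₀) * q y * q u₀ = q u₀
      rw [hall _ hy0, hall y hy, hV, one_mul]
    have hcard : Nat.card (polHom hb u₀).range ≤ 2 := by
      calc Nat.card (polHom hb u₀).range = ((polHom hb u₀).range : Set V).ncard := Nat.card_coe_set_eq _
        _ ≤ ({1, q u₀} : Set V).ncard := Set.ncard_le_ncard (by rintro _ ⟨y, rfl⟩; exact hr y) (Set.toFinite _)
        _ ≤ 2 := (Set.ncard_insert_le _ _).trans (by simp)
    have := (polHom hb u₀).ker.card_mul_index
    rw [Subgroup.index_ker, hK2] at this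
    omega
  · -- order 16
    replace hkU : Nat.card U = 16 := by rw [hkU]; rfl
    have h4 : ∀ x : U, x ≠ 1 → 4 ≤ Nat.card (polHom hb x).ker := fun x hx => by
      have := card_le_mul hU hV hq hb hV4 x
      omega
    have h5 : ∀ x : U, x ≠ 1 → (cls q (q x)).card = 5 := by
      intro x hx
      obtain ⟨w, hw1, hwx, a, b, c⟩ := hsum hx (h4 x hx)
      have := hpart (fun e => hx ((hq x).1 e)) hw1 (Ne.symm hwx)
      omega
    have hnon : ∀ t : V, t ≠ 1 → ∃ z : U, z ≠ 1 ∧ q z = t := by
      intro t ht
      obtain ⟨w, hw1, hwx, a, b, c⟩ := hsum hu₀ (h4 u₀ hu₀)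
      have hne : (cls q t).Nonempty := by
        rw [← Finset.card_pos]
        rcases V_univ hV hV4 (fun e => hu₀ ((hq u₀).1 e)) hw1 (Ne.symm hwx) t with e | e | e | e
        · exact absurd e ht
        all_goals subst e; omega
      obtain ⟨z, hz⟩ := hne
      exact ⟨z, fun e => ht (by rw [← mem_cls.1 hz, e, (hq 1).2 rfl]), mem_cls.1 hz⟩
    -- transitivity on a value class
    have htrans : ∀ {x y : U}, x ≠ 1 → q y = q x → ∃ a, ψ a x = y := by
      intro x y hx he
      set O := (cls q (q x)).filter fun z => ∃ a, ψ a x = z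
      have hOi : ∀ a, ∀ z ∈ O, ψ a z ∈ O := by
        intro a z hz
        simp only [O, Finset.mem_filter, mem_cls] at hz ⊢
        obtain ⟨hz1, b, hb'⟩ := hz
        exact ⟨(hqψ a z).trans hz1, a * b, by rw [map_mul, MulAut.mul_apply, hb']⟩
      have hxO : x ∈ O := by
        simp only [O, Finset.mem_filter, mem_cls]
        exact ⟨trivial, 1, by simp⟩
      have hO5 : 5 ≤ O.card := by
        by_contra h
        exact hx (hsmall O hOi (by omega) x hxO)
      have : O = cls q (q x) := Finset.eq_of_subset_of_card_le (Finset.filter_subset _ _) (by rw [h5 x hx]; omega)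
      have hy : y ∈ O := this ▸ mem_cls.2 he
      exact (Finset.mem_filter.1 hy).2
    have hpolψ : ∀ a y z, pol q (ψ a y) (ψ a z) = pol q y z := fun a y z => by
      simp only [pol, ← map_mul, hqψ]
    have hKψ : ∀ a x, Nat.card (polHom hb (ψ a x)).ker = Nat.card (polHom hb x).ker := by
      intro a x
      refine (Nat.card_congr (Equiv.subtypeEquiv (ψ a).toEquiv fun z => ?_)).symm
      show pol q z x = 1 ↔ pol q (ψ a z) (ψ a x) = 1
      rw [hpolψ]
    -- no centralizer of order eight
    have hK4 : ∀ x : U, x ≠ 1 → Nat.card (polHom hb x).ker = 4 := by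
      intro x hx
      rcases htwo _ (card_ker_le hU hV hq hb hV4 hx) with h | h | h | h
      · exact absurd h (by have := h4 x hx; omega)
      · exact absurd h (by have := h4 x hx; omega)
      · exact h
      exfalso
      -- the non-trivial value of `pol q · x` is `q x`
      have himg : ∀ {x : U}, x ≠ 1 → Nat.card (polHom hb x).ker = 8 → ∀ y, pol q y x = 1 ∨ pol q y x = q x := by
        intro x hx h8 y
        by_contra hcon
        push Not at hcon
        set c := pol q y x
        have hr2 : Nat.card (polHom hb x).range = 2 := by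
          have := (polHom hb x).ker.card_mul_index
          rw [Subgroup.index_ker, h8] at this
          omega
        have hval : ∀ z, pol q z x = 1 ∨ pol q z x = c := by
          intro z
          by_contra hz
          push Not at hz
          have hs : ({1, c, pol q z x} : Set V) ⊆ ((polHom hb x).range : Set V) := by
            rintro t (rfl | rfl | rfl)
            exacts [one_mem _, ⟨y, rfl⟩, ⟨z, rfl⟩]
          have := Set.ncard_le_ncard hs (Set.toFinite _)
          rw [Set.ncard_eq_three.2 ⟨1, c, pol q z x, Ne.symm hcon.1, Ne.symm hz.1, Ne.symm hz.2, rfl⟩,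
            ← Nat.card_coe_set_eq] at this
          simp only [SetLike.coe_sort_coe] at this
          omega
        have hci : 2 * ((cls q c).filter fun z => pol q z x = 1).card + 2 = 8 :=
          h8 ▸ two_mul_card_inter hU hV hq hb hV4 hx hcon.1 hcon.2
        have hc5 : (cls q c).card = 5 := by
          obtain ⟨z, hz1, hzc⟩ := hnon c hcon.1
          rw [← hzc]; exact h5 z hz1
        have hinj : ((cls q (q x)).erase x).card ≤ ((cls q c).filter fun z => pol q z x ≠ 1).card := by
          refine Finset.card_le_card_of_injOn (fun z => z * x) ?_ fun a _ b _ e => mul_right_cancel e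
          intro z hz
          simp only [Finset.mem_coe, Finset.mem_erase, mem_cls] at hz
          simp only [Finset.mem_coe, Finset.mem_filter, mem_cls]
          have hnK : pol q z x ≠ 1 := fun e => hz.1 (eq_of_value hU hV hq hb e hz.2)
          refine ⟨?_, fun e => hnK ?_⟩
          · have h1 : q (z * x) * q z * q x = c := (hval z).resolve_left hnK
            rw [hz.2, mul_assoc, hV, mul_one] at h1
            exact h1
          · have hm : z * x * x ∈ (polHom hb x).ker := mul_mem e (self_mem hU hV hq hb x)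
            rwa [mul_assoc, hU, mul_one] at hm
        rw [Finset.card_erase_of_mem (mem_cls.2 rfl), h5 x hx] at hinj
        have := Finset.card_filter_add_card_filter_not (s := cls q c) (fun z => pol q z x = 1)
        simp only [ne_eq] at hinj this
        omega
      obtain ⟨z, hzx, hz1, hzne, -⟩ := hfull hx (h4 x hx)
      have hz0 : z ≠ 1 := fun e => hz1 ((hq z).2 e)
      have hcount := card_mul_eq (cls q (q x)) (cls q (q z)) (fun a b => pol q b a = 1)
        (fun a b e => by rw [pol_comm]; exact e) 3 (((cls q (q x)).filter fun a => pol q z a = 1).card)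
        (fun a ha => by
          obtain ⟨b, hb'⟩ := htrans hx (mem_cls.1 ha)
          have h8 : Nat.card (polHom hb a).ker = 8 := by rw [← hb', hKψ, h]
          have ha1 : a ≠ 1 := fun e => hx ((hq x).1 (by rw [← mem_cls.1 ha, e, (hq 1).2 rfl]))
          have := two_mul_card_inter hU hV hq hb hV4 ha1 hz1 (by rw [mem_cls.1 ha]; exact hzne)
          rw [h8] at this; omega)
        (fun b hb' => by
          obtain ⟨a, rfl⟩ := htrans hz0 (mem_cls.1 hb')
          refine Finset.card_bij' (fun t _ => ψ a⁻¹ t) (fun t _ => ψ a t) ?_ ?_ ?_ ?_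
          · intro t ht
            simp only [Finset.mem_filter, mem_cls, hqψ] at ht ⊢
            refine ⟨ht.1, ?_⟩
            rw [← hpolψ a, ← MulAut.mul_apply, ← map_mul]
            simpa using ht.2
          · intro t ht
            simp only [Finset.mem_filter, mem_cls, hqψ] at ht ⊢
            exact ⟨ht.1, by rw [hpolψ]; exact ht.2⟩
          · intro t _; rw [← MulAut.mul_apply, ← map_mul]; simp
          · intro t _; rw [← MulAut.mul_apply, ← map_mul]; simp)
      rw [h5 x hx, h5 z hz0] at hcount
      have hz8 : Nat.card (polHom hb z).ker = 8 := by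
        have := two_mul_card_inter hU hV hq hb hV4 hz0 (fun e => hx ((hq x).1 e)) (Ne.symm hzne)
        have e : ((cls q (q x)).filter fun a => pol q z a = 1) = (cls q (q x)).filter fun a => pol q a z = 1 :=
          Finset.filter_congr fun a _ => by rw [pol_comm]
        rw [e] at hcount
        omega
      -- an element of the class of `z` which does not commute with `x`
      have hout : ((cls q (q z)).filter fun t => pol q t x ≠ 1).Nonempty := by
        rw [← Finset.card_pos]
        have := two_mul_card_inter hU hV hq hb hV4 hx hz1 hzne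
        rw [h] at this
        have := Finset.card_filter_add_card_filter_not (s := cls q (q z)) (fun t => pol q t x = 1)
        simp only [ne_eq] at this ⊢
        rw [h5 z hz0] at this
        omega
      obtain ⟨t, ht⟩ := hout
      simp only [Finset.mem_filter, mem_cls] at ht
      have ht0 : t ≠ 1 := fun e => hz1 (by rw [← ht.1, e, (hq 1).2 rfl])
      obtain ⟨a, hat⟩ := htrans hz0 ht.1
      have h1 := (himg hx h t).resolve_left ht.2
      have h2 := (himg ht0 (by rw [← hat, hKψ, hz8]) x).resolve_left (by rw [pol_comm]; exact ht.2)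
      rw [pol_comm, h1, ht.1] at h2
      exact hzne h2.symm
    -- the automorphism group is small
    have huniq : ∀ {x : U} (r : MulAut U), x ≠ 1 → r x = x → (∀ u, q (r u) = q u) →
        ∀ z ∈ (polHom hb x).ker, r z = z := by
      intro x r hx hrx hrq z hz
      by_cases hz1 : z = 1
      · rw [hz1, map_one]
      by_cases hzx : z = x
      · rw [hzx, hrx]
      have hne : q z ≠ q x := fun h => hzx (eq_of_value hU hV hq hb hz h)
      have := two_mul_card_inter hU hV hq hb hV4 hx (fun e => hz1 ((hq z).1 e)) hne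
      rw [hK4 x hx] at this
      refine Finset.card_le_one.1 (by omega : ((cls q (q z)).filter fun t => pol q t x = 1).card ≤ 1) _ ?_ _ ?_
      · simp only [Finset.mem_filter, mem_cls]
        refine ⟨hrq z, ?_⟩
        conv_lhs => rw [← hrx]
        simp only [pol, ← map_mul, hrq]
        exact hz
      · simp only [Finset.mem_filter, mem_cls]
        exact ⟨trivial, hz⟩
    obtain ⟨x, hx⟩ : ∃ x : U, x ≠ 1 := ⟨u₀, hu₀⟩
    obtain ⟨y, hy⟩ : ((cls q (q x)).erase x).Nonempty := by
      rw [← Finset.card_pos, Finset.card_erase_of_mem (mem_cls.2 rfl), h5 x hx]; norm_num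
    simp only [Finset.mem_erase, mem_cls] at hy
    have hy1 : y ≠ 1 := fun e => hx ((hq x).1 (by rw [← hy.2, e, (hq 1).2 rfl]))
    have hyK : y ∉ (polHom hb x).ker := fun h => hy.1 (eq_of_value hU hV hq hb h hy.2)
    set Kx := (polHom hb x).ker
    set Ky := (polHom hb y).ker
    have hdisj : ∀ w ∈ Kx, w ∈ Ky → w = 1 := by
      intro w hwx hwy
      by_contra hw1
      have hwne : w ≠ x := fun e => hyK (ker_symm hb (e ▸ hwy))
      have hqw : q w ≠ q x := fun e => hwne (eq_of_value hU hV hq hb hwx e)
      have := two_mul_card_inter hU hV hq hb hV4 hw1 (fun e => hx ((hq x).1 e)) (Ne.symm hqw)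
      rw [hK4 w hw1] at this
      refine hy.1 (Finset.card_le_one.1 (by omega : ((cls q (q x)).filter fun t => pol q t w = 1).card ≤ 1) _ ?_ _ ?_)
      · simp only [Finset.mem_filter, mem_cls]; exact ⟨hy.2, ker_symm hb hwy⟩
      · simp only [Finset.mem_filter, mem_cls]; exact ⟨trivial, ker_symm hb hwx⟩
    let m : Kx × Ky → U := fun p => (p.1 : U) * p.2
    have hm : Function.Injective m := by
      rintro ⟨a, b⟩ ⟨c, d⟩ e
      simp only [m] at e
      have h1 : (c : U)⁻¹ * a = d * (b : U)⁻¹ := by
        rw [inv_mul_eq_iff_eq_mul, ← mul_assoc, eq_mul_inv_iff_mul_eq]; exact e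
      have h2 : (c : U)⁻¹ * a = 1 :=
        hdisj _ (mul_mem (inv_mem c.2) a.2) (h1 ▸ mul_mem d.2 (inv_mem b.2))
      have hac : (a : U) = c := (inv_mul_eq_one.1 h2).symm
      rw [hac] at e
      exact Prod.ext (Subtype.ext hac) (Subtype.ext (mul_left_cancel e))
    have hms : Function.Surjective m :=
      ((Nat.bijective_iff_injective_and_card m).2
        ⟨hm, by rw [Nat.card_prod, hK4 x hx, hK4 y hy1, hkU]⟩).2
    set R := ψ.range
    have hRq : ∀ r : R, ∀ u, q ((r : MulAut U) u) = q u := by
      rintro ⟨_, a, rfl⟩ u; exact hqψ a u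
    let F : R → {p : U × U // p ∈ (cls q (q x)).offDiag} := fun r =>
      ⟨((r : MulAut U) x, (r : MulAut U) y), by
        simp only [Finset.mem_offDiag, mem_cls, hRq]
        exact ⟨trivial, hy.2, fun e => hy.1 ((MulEquiv.injective _ e).symm)⟩⟩
    have hF : Function.Injective F := by
      intro r s e
      have e1 : (r : MulAut U) x = (s : MulAut U) x := congrArg (fun p => p.1.1) e
      have e2 : (r : MulAut U) y = (s : MulAut U) y := congrArg (fun p => p.1.2) e
      have hq' : ∀ u, q (((s : MulAut U)⁻¹ * (r : MulAut U)) u) = q u := fun u => hRq (s⁻¹ * r) u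
      refine Subtype.ext (MulEquiv.ext fun u => ?_)
      obtain ⟨⟨a, b⟩, rfl⟩ := hms u
      have k1 := huniq ((s : MulAut U)⁻¹ * (r : MulAut U)) hx (by rw [MulAut.mul_apply, e1, MulAut.inv_apply_self]) hq' a a.2
      have k2 := huniq ((s : MulAut U)⁻¹ * (r : MulAut U)) hy1 (by rw [MulAut.mul_apply, e2, MulAut.inv_apply_self]) hq' b b.2
      have k := congrArg (s : MulAut U) k1
      have k' := congrArg (s : MulAut U) k2
      rw [MulAut.mul_apply, MulAut.apply_inv_self] at k k'
      simp only [m, map_mul, k, k']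
    have hR : Nat.card R ≤ 20 := by
      refine (Nat.card_le_card_of_injective F hF).trans ?_
      rw [Nat.card_eq_fintype_card, Fintype.card_coe, Finset.offDiag_card, h5 x hx]
    haveI : Group.IsSolvable R := CfsgLib.Zassenhaus.isSolvable_of_card_le (by omega)
    refine hx (hfix x fun a => ?_)
    have := hom_trivial_of_perfect hA ψ.rangeRestrict a
    have h' : ψ a = 1 := congrArg Subtype.val this
    rw [h']; rfl
  · -- order 32
    replace hkU : Nat.card U = 32 := by rw [hkU]; rfl
    have h8 : ∀ x : U, x ≠ 1 → Nat.card (polHom hb x).ker = 8 := by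
      intro x hx
      have h1 := card_le_mul hU hV hq hb hV4 x
      have h2 := card_ker_le hU hV hq hb hV4 hx
      omega
    have hn : ∀ {v w : V}, v ≠ 1 → w ≠ 1 → v ≠ w → (cls q v).card = (cls q w).card := by
      intro v w hv hw hvw
      have h1 : ∀ {v w : V}, v ≠ 1 → w ≠ 1 → v ≠ w → ∀ a ∈ cls q v,
          ((cls q w).filter fun b => pol q b a = 1).card = 3 := by
        intro v w hv hw hvw a ha
        have ha1 : a ≠ 1 := fun e => hv (by rw [← mem_cls.1 ha, e, (hq 1).2 rfl])
        have := two_mul_card_inter hU hV hq hb hV4 ha1 hw (by rw [mem_cls.1 ha]; exact Ne.symm hvw)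
        rw [h8 a ha1] at this
        omega
      have := card_mul_eq (cls q v) (cls q w) (fun a b => pol q b a = 1)
        (fun a b e => by rw [pol_comm]; exact e) 3 3 (h1 hv hw hvw) (fun b hb' => by
          rw [← h1 hw hv (Ne.symm hvw) b hb']
          exact congrArg Finset.card (Finset.filter_congr fun a _ => by rw [pol_comm]))
      omega
    obtain ⟨w, hw1, hwx, -, -, -⟩ := hsum hu₀ (by rw [h8 u₀ hu₀]; norm_num)
    have hv1 : q u₀ ≠ 1 := fun e => hu₀ ((hq u₀).1 e)
    obtain ⟨h3, h4', -⟩ := mul_ne hV hv1 hw1 (Ne.symm hwx)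
    have := hn hv1 hw1 (Ne.symm hwx)
    have := hn hv1 h3 (Ne.symm h4')
    have := hpart hv1 hw1 (Ne.symm hwx)
    omega

/-- The main lemma, with fixed points in the radical. -/
theorem fixed_of_perfect [Finite U] [Finite V] (hU : ∀ u : U, u * u = 1) (hV : ∀ v : V, v * v = 1)
    (hV4 : Nat.card V ≤ 4) (hq : ∀ u : U, q u = 1 ↔ u = 1)
    (hb : ∀ u v w : U, pol q (u * v) w = pol q u w * pol q v w)
    {A : Type*} [Group A] (hA : commutator A = ⊤) (ψ : A →* MulAut U) (hqψ : ∀ a u, q (ψ a u) = q u)
    (hrad : ∀ r : U, (∀ a, ψ a r = r) → ∀ u, pol q u r = 1) (a : A) (u : U) : ψ a u = u := by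
  haveI := Fintype.ofFinite U
  by_cases h : ∃ r : U, r ≠ 1 ∧ ∀ a, ψ a r = r
  swap
  · push Not at h
    have := eq_one_of_perfect hU hV hV4 hq hb hA ψ hqψ (fun u hu => by
      by_contra hne; obtain ⟨a, ha⟩ := h u hne; exact ha (hu a)) u
    rw [this, map_one]
  obtain ⟨r, hr1, hr⟩ := h
  have hKr : ∀ x, x ∈ (polHom hb r).ker := fun x => hrad r hr x
  by_cases hu1 : u = 1
  · rw [hu1, map_one]
  by_cases hne : q u = q r
  · rw [eq_of_value hU hV hq hb (hKr u) hne, hr]
  have h8 := card_ker_le hU hV hq hb hV4 hr1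
  have h2 := two_mul_card_inter hU hV hq hb hV4 hr1 (fun e => hu1 ((hq u).1 e)) hne
  rw [Finset.filter_true_of_mem (p := fun z => pol q z r = 1) (fun z _ => hKr z)] at h2
  have hiff : ∀ a z, ψ a z ∈ cls q (q u) ↔ z ∈ cls q (q u) := fun a z => by simp [mem_cls, hqψ]
  let f : A →* Equiv.Perm (cls q (q u)) :=
    { toFun := fun a => Equiv.Perm.subtypePerm (ψ a).toEquiv (hiff a)
      map_one' := by ext s; simp
      map_mul' := fun a b => by ext s; simp only [map_mul]; rfl }
  have hc : Nat.card (cls q (q u)) ≤ 4 := by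
    rw [Nat.card_eq_fintype_card, Fintype.card_coe]
    omega
  exact congrArg Subtype.val (perm_trivial_of_perfect hA hc f a ⟨u, mem_cls.2 rfl⟩)

end CfsgLib.ThreeInvolutions
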