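import Mathlib
import Cfsg.Agent.Lib.ThreeInvolutions.Form
import Cfsg.Agent.Lib.RankFrattini

/-!
A perfect group acts trivially on a 2-group with at most three involutions.
-/

set_option autoImplicit false
set_option linter.unusedSectionVars false
set_option linter.style.haveILetI false

namespace CfsgLib.ThreeInvolutions

open scoped Classical
open scoped commutatorElement

universe u v

/-- The restriction of an action to an invariant subgroup. -/
def restrictAut {X : Type u} [Group X] {A : Type v} [Group A] (φ : A →* MulAut X) (Q : Subgroup X)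
    (hQ : ∀ a, ∀ x ∈ Q, φ a x ∈ Q) : A →* MulAut Q where
  toFun a :=
    { toFun := fun x => ⟨φ a x, hQ a x x.2⟩
      invFun := fun x => ⟨φ a⁻¹ x, hQ a⁻¹ x x.2⟩
      left_inv := fun x => Subtype.ext (by
        show φ a⁻¹ (φ a x) = x
        rw [map_inv, MulAut.inv_apply_self])
      right_inv := fun x => Subtype.ext (by
        show φ a (φ a⁻¹ x) = x
        rw [map_inv, MulAut.apply_inv_self])
      map_mul' := fun x y => Subtype.ext (by simp) }
  map_one' := MulEquiv.ext fun x => Subtype.ext (by simp)
  map_mul' a b := MulEquiv.ext fun x => Subtype.ext (by simp)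

/-- The action on the quotient by a fixed subgroup. -/
noncomputable def quotAut {X : Type u} [Group X] {A : Type v} [Group A] (φ : A →* MulAut X) (V : Subgroup X) [V.Normal]
    (hV : ∀ a, ∀ v ∈ V, φ a v = v) : A →* MulAut (X ⧸ V) where
  toFun a := QuotientGroup.congr V V (φ a) (by
    ext x
    constructor
    · rintro ⟨v, hv, rfl⟩
      show φ a v ∈ V
      rw [hV a v hv]; exact hv
    · intro hx
      exact ⟨x, hx, hV a x hx⟩)
  map_one' := MulEquiv.ext fun x => by
    induction x using QuotientGroup.induction_on with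
    | H x => simp
  map_mul' a b := MulEquiv.ext fun x => by
    induction x using QuotientGroup.induction_on with
    | H x => simp

theorem quotAut_mk {X : Type u} [Group X] {A : Type v} [Group A] (φ : A →* MulAut X) (V : Subgroup X) [V.Normal]
    (hV : ∀ a, ∀ v ∈ V, φ a v = v) (a : A) (x : X) :
    quotAut φ V hV a (x : X ⧸ V) = ((φ a x : X) : X ⧸ V) := rfl

theorem trivial_of_perfect {A : Type v} [Group A] (hA : commutator A = ⊤) :
    ∀ (n : ℕ) (X : Type u) [Group X] [Finite X], Nat.card X = n → IsPGroup 2 X →
      Nat.card {x : X // x * x = 1} ≤ 4 → ∀ (φ : A →* MulAut X) (a : A) (x : X), φ a x = x := by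
  intro n
  induction n using Nat.strong_induction_on with
  | _ n ih =>
  intro X _ _ hn hp h4 φ
  -- square roots of one are fixed
  have hinv : ∀ x : X, x * x = 1 → ∀ a, φ a x = x := by
    intro x hx a
    have hiff : ∀ a x, φ a x * φ a x = 1 ↔ x * x = 1 := fun a x => by
      rw [← map_mul, MulEquiv.map_eq_one_iff]
    let f : A →* Equiv.Perm {x : X // x * x = 1} :=
      { toFun := fun a => Equiv.Perm.subtypePerm (φ a).toEquiv (hiff a)
        map_one' := by ext s; simp
        map_mul' := fun a b => by ext s; simp only [map_mul]; rfl }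
    exact congrArg Subtype.val (perm_trivial_of_perfect hA h4 f a ⟨x, hx⟩)
  have hsub : ∀ Q : Subgroup X, Q ≠ ⊤ → (∀ a, ∀ x ∈ Q, φ a x ∈ Q) → ∀ a, ∀ x ∈ Q, φ a x = x := by
    intro Q hQ hQi a x hx
    have hlt : Nat.card Q < n := by
      rw [← hn]
      exact lt_of_le_of_ne (Subgroup.card_le_card_group Q) fun e => hQ (Subgroup.eq_top_of_card_eq Q e)
    have h4' : Nat.card {y : Q // y * y = 1} ≤ 4 :=
      (Nat.card_le_card_of_injective (β := {y : X // y * y = 1})
        (fun y => ⟨(y.1 : X), by rw [← Subgroup.coe_mul, y.2]; rfl⟩)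
        (fun y z e => Subtype.ext (Subtype.ext (congrArg (fun t => t.1) e)))).trans h4
    exact congrArg Subtype.val (ih _ hlt Q rfl (hp.to_subgroup Q) h4' (restrictAut φ Q hQi) a ⟨x, hx⟩)
  let C : Subgroup X :=
    { carrier := {x | ∀ a, φ a x = x}
      one_mem' := fun a => map_one _
      mul_mem' := fun hx hy a => by rw [map_mul, hx a, hy a]
      inv_mem' := fun hx a => by rw [map_inv, hx a] }
  suffices hC : C = ⊤ by
    intro a x
    exact (hC ▸ Subgroup.mem_top x : x ∈ C) a
  by_contra hC
  haveI hCs : Group.IsSolvable C := by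
    haveI : Fact (Nat.Prime 2) := ⟨Nat.prime_two⟩
    haveI : Group.IsNilpotent C := (hp.to_subgroup C).isNilpotent
    infer_instance
  -- elements moved within cosets of `C` are fixed
  have hmod : ∀ x : X, (∀ a, x⁻¹ * φ a x ∈ C) → x ∈ C := by
    intro x hx a
    let c : A →* C := MonoidHom.mk' (fun a => ⟨x⁻¹ * φ a x, hx a⟩) fun a b => Subtype.ext (by
      show x⁻¹ * φ (a * b) x = x⁻¹ * φ a x * (x⁻¹ * φ b x)
      rw [map_mul, MulAut.mul_apply]
      conv_lhs => rw [show φ b x = x * (x⁻¹ * φ b x) by group, map_mul, hx b a]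
      group)
    exact (inv_mul_eq_one.1 (congrArg Subtype.val (hom_trivial_of_perfect hA c a))).symm
  -- the commutators with the action generate
  set D := Subgroup.closure {y : X | ∃ x a, y = x⁻¹ * φ a x} with hD
  have hDi : ∀ b, ∀ y ∈ D, φ b y ∈ D := by
    intro b y hy
    induction hy using Subgroup.closure_induction with
    | mem y hy =>
      obtain ⟨x, a, rfl⟩ := hy
      refine Subgroup.subset_closure ⟨φ b x, b * a * b⁻¹, ?_⟩
      rw [map_mul, map_inv, map_mul, map_mul, map_inv, MulAut.mul_apply, MulAut.mul_apply, MulAut.inv_apply_self]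
    | one => rw [map_one]; exact one_mem D
    | mul y z _ _ hy hz => rw [map_mul]; exact mul_mem hy hz
    | inv y _ hy => rw [map_inv]; exact inv_mem hy
  have hgen : D = ⊤ := by
    by_contra hne
    refine hC (eq_top_iff.2 fun x _ => hmod x fun a b => ?_)
    exact hsub D hne hDi b _ (Subgroup.subset_closure ⟨x, a, rfl⟩)
  -- fixed normal subgroups are central
  have hcentral : ∀ R : Subgroup X, R.Normal → R ≤ C → R ≤ Subgroup.center X := by
    intro R hR hRC r hr
    rw [Subgroup.mem_center_iff]
    intro g
    have hg : g ∈ D := hgen ▸ Subgroup.mem_top g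
    induction hg using Subgroup.closure_induction with
    | mem y hy =>
      obtain ⟨x, a, rfl⟩ := hy
      have h1 : φ a (x * r * x⁻¹) = x * r * x⁻¹ := hRC (hR.conj_mem r hr x) a
      rw [map_mul, map_mul, map_inv, hRC hr a] at h1
      calc x⁻¹ * φ a x * r = x⁻¹ * (φ a x * r * (φ a x)⁻¹) * φ a x := by group
        _ = x⁻¹ * (x * r * x⁻¹) * φ a x := by rw [h1]
        _ = r * (x⁻¹ * φ a x) := by group
    | one => simp
    | mul y z _ _ hy hz => rw [mul_assoc, hz, ← mul_assoc, hy, mul_assoc]
    | inv y _ hy =>
      calc y⁻¹ * r = y⁻¹ * (r * y) * y⁻¹ := by group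
        _ = y⁻¹ * (y * r) * y⁻¹ := by rw [hy]
        _ = r * y⁻¹ := by group
  haveI : Fact (Nat.Prime 2) := ⟨Nat.prime_two⟩
  haveI : Nontrivial X := by
    by_contra h
    rw [not_nontrivial_iff_subsingleton] at h
    exact hC (Subsingleton.elim _ _)
  have hΦ : frattini X ≤ C := by
    have hne : frattini X ≠ ⊤ := by
      intro h
      obtain ⟨M, hM, -⟩ := (eq_top_or_exists_le_coatom (⊥ : Subgroup X)).resolve_left bot_ne_top
      exact hM.1 (top_le_iff.1 (h ▸ frattini_le_coatom hM))
    intro x hx a
    refine hsub _ hne (fun b y hy => ?_) a x hx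
    have : (frattini X).map (φ b).toMonoidHom = frattini X :=
      Subgroup.characteristic_iff_map_eq.mp inferInstance (φ b)
    rw [← this]; exact ⟨y, hy, rfl⟩
  have hsqC : ∀ x : X, x * x ∈ C := fun x => hΦ (by rw [← pow_two]; exact CfsgLib.pow_mem_frattini_pGroup hp x)
  have hΦc : frattini X ≤ Subgroup.center X := hcentral _ inferInstance hΦ
  have hsqc : ∀ x : X, x * x ∈ Subgroup.center X :=
    fun x => hΦc (by rw [← pow_two]; exact CfsgLib.pow_mem_frattini_pGroup hp x)
  -- commutators
  have hcomm : ∀ x y : X, ∃ c ∈ Subgroup.center X, c * c = 1 ∧ y * x = c * x * y := by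
    intro x y
    set c := ⁅y, x⁆
    have hyx : y * x = c * x * y := by simp only [c, commutatorElement_def]; group
    have hc : c ∈ Subgroup.center X := by
      refine hΦc ?_
      have e : c = (y * y) * ((y⁻¹ * x) * (y⁻¹ * x)) * (x⁻¹ * x⁻¹) := by
        simp only [c, commutatorElement_def]; group
      rw [e]
      simp only [← pow_two]
      exact mul_mem (mul_mem (CfsgLib.pow_mem_frattini_pGroup hp y) (CfsgLib.pow_mem_frattini_pGroup hp _))
        (CfsgLib.pow_mem_frattini_pGroup hp _)
    refine ⟨c, hc, ?_, hyx⟩
    have hcc := Subgroup.mem_center_iff.1 hc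
    have h1 : y * (x * x) * y⁻¹ = x * x := by
      rw [Subgroup.mem_center_iff.1 (hsqc x) y, mul_inv_cancel_right]
    have h2 : y * (x * x) * y⁻¹ = c * c * (x * x) :=
      calc y * (x * x) * y⁻¹ = (y * x * y⁻¹) * (y * x * y⁻¹) := by group
        _ = (c * x) * (c * x) := by rw [hyx]; group
        _ = c * (x * c) * x := by group
        _ = c * (c * x) * x := by rw [hcc x]
        _ = c * c * (x * x) := by group
    exact mul_right_cancel (b := x * x) (by rw [← h2, h1, one_mul])
  have hsq_mul : ∀ x y : X, ∃ c ∈ Subgroup.center X, c * c = 1 ∧ (x * y) * (x * y) = c * ((x * x) * (y * y)) := by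
    intro x y
    obtain ⟨c, hc, hc2, hyx⟩ := hcomm x y
    refine ⟨c, hc, hc2, ?_⟩
    calc x * y * (x * y) = x * (y * x) * y := by group
      _ = x * c * (x * y * y) := by rw [hyx]; group
      _ = c * x * (x * y * y) := by rw [Subgroup.mem_center_iff.1 hc x]
      _ = c * ((x * x) * (y * y)) := by group
  -- the fourth powers are trivial
  have hfour : ∀ x : X, (x * x) * (x * x) = 1 := by
    intro x
    have hx : x ∈ D := hgen ▸ Subgroup.mem_top x
    induction hx using Subgroup.closure_induction with
    | mem y hy =>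
      obtain ⟨w, a, rfl⟩ := hy
      obtain ⟨c, hc, hc2, e⟩ := hsq_mul w⁻¹ (φ a w)
      have h1 : φ a w * φ a w = w * w := by rw [← map_mul]; exact hsqC w a
      rw [e, h1, show w⁻¹ * w⁻¹ * (w * w) = 1 by group, mul_one, hc2]
    | one => simp
    | mul y z _ _ hy hz =>
      obtain ⟨c, hc, hc2, e⟩ := hsq_mul y z
      have hcc := Subgroup.mem_center_iff.1 hc
      have hy2 := Subgroup.mem_center_iff.1 (hsqc y)
      calc y * z * (y * z) * (y * z * (y * z)) = c * ((y * y) * (z * z)) * (c * ((y * y) * (z * z))) := by rw [e]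
        _ = c * ((y * y) * (z * z) * c) * ((y * y) * (z * z)) := by group
        _ = c * (c * ((y * y) * (z * z))) * ((y * y) * (z * z)) := by rw [hcc]
        _ = c * c * ((y * y) * ((z * z) * (y * y)) * (z * z)) := by group
        _ = c * c * ((y * y) * ((y * y) * (z * z)) * (z * z)) := by rw [hy2]
        _ = c * c * ((y * y * (y * y)) * (z * z * (z * z))) := by group
        _ = 1 := by rw [hc2, hy, hz]; simp
    | inv y _ hy =>
      rw [show y⁻¹ * y⁻¹ * (y⁻¹ * y⁻¹) = (y * y * (y * y))⁻¹ by group, hy, inv_one]
  -- the kernel `V`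
  haveI hCn : C.Normal := ⟨fun c hc g => by
    obtain ⟨d, hd, hd2, e⟩ := hcomm c g
    have : g * c * g⁻¹ = d * c := by rw [e]; group
    rw [this]
    exact mul_mem (fun a => hinv d hd2 a) hc⟩
  have hCc : C ≤ Subgroup.center X := hcentral C hCn le_rfl
  have hVc : ∀ v : X, v * v = 1 → v ∈ Subgroup.center X := fun v hv => hCc fun a => hinv v hv a
  let V : Subgroup X :=
    { carrier := {x | x * x = 1}
      one_mem' := one_mul 1
      mul_mem' := fun {x y} hx hy => by
        show x * y * (x * y) = 1
        calc x * y * (x * y) = x * (y * x) * y := by group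
          _ = x * (x * y) * y := by rw [Subgroup.mem_center_iff.1 (hVc x hx) y]
          _ = (x * x) * (y * y) := by group
          _ = 1 := by rw [show x * x = 1 from hx, show y * y = 1 from hy, one_mul]
      inv_mem' := fun {x} hx => by
        show x⁻¹ * x⁻¹ = 1
        rw [← mul_inv_rev, show x * x = 1 from hx, inv_one] }
  haveI hVn : V.Normal := ⟨fun v hv g => by
    rw [Subgroup.mem_center_iff.1 (hVc v hv) g, mul_inv_cancel_right]; exact hv⟩
  letI : CommGroup V :=
    { (inferInstance : Group V) with
      mul_comm := fun v w => Subtype.ext (Subgroup.mem_center_iff.1 (hVc w w.2) v) }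
  letI : CommGroup (X ⧸ V) :=
    { (inferInstance : Group (X ⧸ V)) with
      mul_comm := by
        intro a b
        induction a using QuotientGroup.induction_on with
        | H x =>
          induction b using QuotientGroup.induction_on with
          | H y =>
            obtain ⟨c, hc, hc2, e⟩ := hcomm y x
            rw [← QuotientGroup.mk_mul, ← QuotientGroup.mk_mul, e, mul_assoc, QuotientGroup.mk_mul]
            rw [(QuotientGroup.eq_one_iff c).2 hc2, one_mul] }
  let q : X ⧸ V → V := fun u => Quotient.liftOn' u (fun x => (⟨x * x, hfour x⟩ : V)) fun x y hxy => by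
    rw [QuotientGroup.leftRel_apply] at hxy
    apply Subtype.ext
    have hv := Subgroup.mem_center_iff.1 (hVc _ hxy)
    show x * x = y * y
    calc x * x = x * (x * ((x⁻¹ * y) * (x⁻¹ * y))) := by rw [show (x⁻¹ * y) * (x⁻¹ * y) = 1 from hxy, mul_one]
      _ = x * ((x * (x⁻¹ * y)) * (x⁻¹ * y)) := by group
      _ = x * ((x⁻¹ * y) * (x * (x⁻¹ * y))) := by rw [hv (x * (x⁻¹ * y))]
      _ = y * y := by group
  have hqmk : ∀ x : X, ((q (x : X ⧸ V) : V) : X) = x * x := fun x => rfl
  have hpol : ∀ x y : X, ∀ c ∈ Subgroup.center X, c * c = 1 → y * x = c * x * y →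
      ((pol q (x : X ⧸ V) (y : X ⧸ V) : V) : X) = c := by
    intro x y c hc hc2 e
    show ((q ((x : X ⧸ V) * (y : X ⧸ V)) * q (x : X ⧸ V) * q (y : X ⧸ V) : V) : X) = c
    rw [Subgroup.coe_mul, Subgroup.coe_mul, ← QuotientGroup.mk_mul, hqmk, hqmk, hqmk]
    have hx2 := Subgroup.mem_center_iff.1 (hsqc x)
    calc x * y * (x * y) * (x * x) * (y * y) = x * (y * x) * y * (x * x) * (y * y) := by group
      _ = x * c * x * (y * y * (x * x)) * (y * y) := by rw [e]; group
      _ = c * x * x * (x * x * (y * y)) * (y * y) := by rw [hx2 (y * y), Subgroup.mem_center_iff.1 hc x]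
      _ = c * ((x * x * (x * x)) * (y * y * (y * y))) := by group
      _ = c := by rw [hfour, hfour, one_mul, mul_one]
  have hb : ∀ u v w : X ⧸ V, pol q (u * v) w = pol q u w * pol q v w := by
    intro u v w
    induction u using QuotientGroup.induction_on with
    | H x =>
      induction v using QuotientGroup.induction_on with
      | H y =>
        induction w using QuotientGroup.induction_on with
        | H z =>
          obtain ⟨c, hc, hc2, e1⟩ := hcomm x z
          obtain ⟨d, hd, hd2, e2⟩ := hcomm y z
          have hcd : (c * d) * (c * d) = 1 := by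
            rw [show c * d * (c * d) = c * (d * c) * d by group, Subgroup.mem_center_iff.1 hc d,
              show c * (c * d) * d = c * c * (d * d) by group, hc2, hd2, one_mul]
          apply Subtype.ext
          rw [← QuotientGroup.mk_mul, Subgroup.coe_mul, hpol x z c hc hc2 e1, hpol y z d hd hd2 e2]
          refine hpol (x * y) z (c * d) (mul_mem hc hd) hcd ?_
          calc z * (x * y) = c * x * (z * y) := by rw [← mul_assoc, e1]; group
            _ = c * (x * d) * y * z := by rw [e2]; group
            _ = c * (d * x) * y * z := by rw [Subgroup.mem_center_iff.1 hd x]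
            _ = c * d * (x * y) * z := by group
  have hU2 : ∀ u : X ⧸ V, u * u = 1 := by
    intro u
    induction u using QuotientGroup.induction_on with
    | H x => rw [← QuotientGroup.mk_mul, QuotientGroup.eq_one_iff]; exact hfour x
  have hq1 : ∀ u : X ⧸ V, q u = 1 ↔ u = 1 := by
    intro u
    induction u using QuotientGroup.induction_on with
    | H x =>
      rw [QuotientGroup.eq_one_iff]
      exact ⟨fun h => congrArg Subtype.val h, fun h => Subtype.ext h⟩
  have hVfix : ∀ a, ∀ v ∈ V, φ a v = v := fun a v hv => hinv v hv a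
  have hall : ∀ a, ∀ u : X ⧸ V, quotAut φ V hVfix a u = u := by
    refine fixed_of_perfect (q := q) hU2 (fun v => Subtype.ext v.2) h4 hq1 hb hA (quotAut φ V hVfix) ?_ ?_
    · intro a u
      induction u using QuotientGroup.induction_on with
      | H x =>
        rw [quotAut_mk]
        apply Subtype.ext
        rw [hqmk, hqmk, ← map_mul]
        exact hsqC x a
    · intro r hr u
      induction r using QuotientGroup.induction_on with
      | H x =>
        induction u using QuotientGroup.induction_on with
        | H y =>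
          have hxC : x ∈ C := hmod x fun a b => by
            have := hr a
            rw [quotAut_mk, eq_comm, QuotientGroup.eq] at this
            exact hVfix b _ this
          apply Subtype.ext
          rw [hpol y x 1 (one_mem _) (one_mul 1)
            (by rw [one_mul]; exact (Subgroup.mem_center_iff.1 (hCc hxC) y).symm)]
          rfl
  refine hC (eq_top_iff.2 fun x _ => hmod x fun a b => ?_)
  have := hall a (x : X ⧸ V)
  rw [quotAut_mk, eq_comm, QuotientGroup.eq] at this
  exact hVfix b _ this

end CfsgLib.ThreeInvolutions
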